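import Groth.Agent.ProjFormLib.Proj
import Groth.Agent.KFlatLib.AffinePull
import Groth.Agent.CohCmpLib.PuSec
import Groth.Agent.CohCmpLib.PullZero

/-!
# Descent of morphisms of finite locally free modules

Along `f : X ⟶ Y` with `𝒪_Y → f_* 𝒪_X ⇉ g_* 𝒪_{X ×_Y X}` exact, morphisms of finite locally free
modules descend.
-/

set_option autoImplicit false
set_option linter.unusedSectionVars false

noncomputable section

universe u

open CategoryTheory CategoryTheory.Limits AlgebraicGeometry TopologicalSpace Opposite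

namespace HomDescLib

open ProjFormLib (ger res ger_res ger_smul ger_add ger_map exists_ger section_ext IsFrame exists_frame)
open KFlatLib (pb puSec puSec_smul puSec_natural puSecLE)

variable {X Y Z : Scheme.{u}}

section Frame

variable {E : X.Modules} {n : ℕ} {U : X.Opens} (e : Fin n → Γ(E, U))

/-- The linear combination of a family of sections. -/
def lc {V : X.Opens} (h : V ≤ U) (a : Fin n → Γ(X, V)) : Γ(E, V) :=
  ∑ i, a i • res E h (e i)

theorem ger_lc {V : X.Opens} (h : V ≤ U) (a : Fin n → Γ(X, V)) (y : X) (hy : y ∈ V) :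
    ger E y hy (lc e h a) =
      Fintype.linearCombination (X.presheaf.stalk y) (fun i => ger E y (h hy) (e i))
        (fun i => X.presheaf.germ V y hy (a i)) := by
  rw [Fintype.linearCombination_apply]
  refine (map_sum (E.presheaf.germ V y hy).hom _ _).trans (Finset.sum_congr rfl fun i _ => ?_)
  refine (ger_smul E y hy (a i) _).trans ?_
  rw [ger_res]

theorem lc_res {V W : X.Opens} (h : V ≤ U) (h' : W ≤ V) (a : Fin n → Γ(X, V)) :
    res E h' (lc e h a) = lc e (h'.trans h) fun i => X.presheaf.map (homOfLE h').op (a i) := by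
  refine (map_sum (E.presheaf.map (homOfLE h').op).hom _ _).trans ?_
  refine Finset.sum_congr rfl fun i _ => (Scheme.Modules.map_smul _ _ _ _).trans ?_
  exact congrArg (_ • ·) (ConcreteCategory.congr_hom
    (E.presheaf.map_comp (homOfLE h).op (homOfLE h').op).symm (e i))

variable {e}

theorem lc_injective (he : IsFrame E e) {V : X.Opens} (h : V ≤ U) :
    Function.Injective (lc e h) := fun a b hab => funext fun i => by
  refine TopCat.Presheaf.section_ext X.sheaf V _ _ fun y hy => ?_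
  have := congrArg (ger E y hy) hab
  rw [ger_lc, ger_lc] at this
  exact congr_fun ((he y (h hy)).1 this) i

theorem exists_lc_near (he : IsFrame E e) {V : X.Opens} (h : V ≤ U) (t : Γ(E, V)) (y : X)
    (hy : y ∈ V) : ∃ (W : X.Opens) (hW : W ≤ V), y ∈ W ∧
      ∃ a : Fin n → Γ(X, W), lc e (hW.trans h) a = res E hW t := by
  obtain ⟨c, hc⟩ := (he y (h hy)).2 (ger E y hy t)
  choose Wi hWi s hs using fun i => X.presheaf.exists_germ_eq (c i)
  let W₀ : X.Opens := V ⊓ Finset.univ.inf Wi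
  have hW₀ : y ∈ W₀ :=
    ⟨hy, Finset.inf_induction (p := fun W : X.Opens => y ∈ W) trivial
      (fun _ h₁ _ h₂ => ⟨h₁, h₂⟩) fun i _ => hWi i⟩
  have hle : ∀ i, W₀ ≤ Wi i := fun i => inf_le_right.trans (Finset.inf_le (Finset.mem_univ i))
  let a₀ := fun i => X.presheaf.map (homOfLE (hle i)).op (s i)
  have hg : ger E y hW₀ (lc e (inf_le_left.trans h) a₀) = ger E y hW₀ (res E inf_le_left t) := by
    rw [ger_lc, ger_res, ← hc]
    refine congrArg _ (funext fun i => ?_)
    exact (TopCat.Presheaf.germ_res_apply X.presheaf _ y hW₀ (s i)).trans (hs i)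
  obtain ⟨W, hyW, iU, iV, hW⟩ := E.presheaf.germ_eq y hW₀ hW₀ _ _ hg
  obtain rfl : iU = iV := Subsingleton.elim _ _
  refine ⟨W, iU.le.trans inf_le_left, hyW, fun i => X.presheaf.map (homOfLE iU.le).op (a₀ i), ?_⟩
  rw [← lc_res e (inf_le_left.trans h) iU.le a₀]
  refine hW.trans ?_
  exact ConcreteCategory.congr_hom (E.presheaf.map_comp _ _).symm t

theorem lc_surjective (he : IsFrame E e) {V : X.Opens} (h : V ≤ U) :
    Function.Surjective (lc e h) := by
  intro t
  choose W hW hyW m hm using fun y : V => exists_lc_near he h t y.1 y.2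
  have hcov : V ≤ iSup W := fun y hy => Opens.mem_iSup.2 ⟨⟨y, hy⟩, hyW _⟩
  have hglue : ∀ i, ∃ g : Γ(X, V), ∀ y, X.presheaf.map (homOfLE (hW y)).op g = m y i := by
    intro i
    have hc : ∀ y z, X.presheaf.map (homOfLE (inf_le_left : W y ⊓ W z ≤ W y)).op (m y i) =
        X.presheaf.map (homOfLE (inf_le_right : W y ⊓ W z ≤ W z)).op (m z i) := by
      intro y z
      have key : (fun i => X.presheaf.map (homOfLE (inf_le_left : W y ⊓ W z ≤ W y)).op (m y i)) =
          fun i => X.presheaf.map (homOfLE (inf_le_right : W y ⊓ W z ≤ W z)).op (m z i) := by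
        apply lc_injective he ((inf_le_left.trans (hW y)).trans h)
        rw [← lc_res e ((hW y).trans h) inf_le_left, hm,
          ← lc_res e ((hW z).trans h) inf_le_right, hm]
        exact (ConcreteCategory.congr_hom (E.presheaf.map_comp _ _).symm t).trans
          (ConcreteCategory.congr_hom (E.presheaf.map_comp (homOfLE (hW z)).op
            (homOfLE (inf_le_right : W y ⊓ W z ≤ W z)).op) t)
      exact congr_fun key i
    obtain ⟨g, hg, -⟩ := TopCat.Sheaf.existsUnique_gluing' X.sheaf W V (fun y => homOfLE (hW y)) hcov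
      (fun y => m y i) hc
    exact ⟨g, hg⟩
  choose g hg using hglue
  refine ⟨g, section_ext _ _ fun y hy => ?_⟩
  rw [← ger_res E (hW ⟨y, hy⟩) y (hyW _) (lc e h g), lc_res]
  simp only [hg]
  rw [hm, ger_res]

end Frame

theorem puSec_sum (f : X ⟶ Y) {M : Y.Modules} {U : Y.Opens} {ι : Type*} (s : Finset ι)
    (m : ι → Γ(M, U)) : puSec f (∑ i ∈ s, m i) = ∑ i ∈ s, puSec f (m i) :=
  map_sum (((Scheme.Modules.pullbackPushforwardAdjunction f).unit.app M).app U).hom m s

theorem puSec_lc (f : X ⟶ Y) {M : Y.Modules} {n : ℕ} {U V : Y.Opens} (e : Fin n → Γ(M, U))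
    (h : V ≤ U) (a : Fin n → Γ(Y, V)) :
    puSec f (lc e h a) =
      lc (fun i => puSec f (e i)) (fun _ hx => h hx : f ⁻¹ᵁ V ≤ f ⁻¹ᵁ U) (fun i => f.app V (a i)) := by
  refine (puSec_sum f _ _).trans (Finset.sum_congr rfl fun i _ => ?_)
  exact (puSec_smul f _ _).trans (congrArg (_ • ·) (ProjFormLib.puSec_res f M h (e i)))

theorem puSec_injective (f : X ⟶ Y) (hinj : ∀ U : Y.Opens, Function.Injective (f.app U))
    {M : Y.Modules} (hM : FlatMod.IsFinLocFree M) (U : Y.Opens) :
    Function.Injective (puSec f : Γ(M, U) → _) := by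
  intro s t hst
  refine section_ext _ _ fun y hy => ?_
  obtain ⟨W, n, e, hyW, he⟩ := exists_frame hM y
  obtain ⟨a, ha⟩ := lc_surjective he (inf_le_right : U ⊓ W ≤ W) (res M inf_le_left s)
  obtain ⟨b, hb⟩ := lc_surjective he (inf_le_right : U ⊓ W ≤ W) (res M inf_le_left t)
  rw [← ger_res M (inf_le_left : U ⊓ W ≤ U) y ⟨hy, hyW⟩ s,
    ← ger_res M (inf_le_left : U ⊓ W ≤ U) y ⟨hy, hyW⟩ t]
  congr 1
  have h1 : puSec f (res M (inf_le_left : U ⊓ W ≤ U) s) = puSec f (res M (inf_le_left : U ⊓ W ≤ U) t) := by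
    rw [ProjFormLib.puSec_res, ProjFormLib.puSec_res, hst]
  rw [← ha, ← hb, puSec_lc, puSec_lc] at h1
  have h2 := lc_injective (he.pull f) _ h1
  rw [← ha, ← hb, show a = b from funext fun i => hinj _ (congr_fun h2 i)]

/-- The pullback along `p` of a morphism between pullbacks along `f`, on a section. -/
theorem conj_puSec (p : Z ⟶ X) (f : X ⟶ Y) {L M : Y.Modules} (φ : pb f L ⟶ pb f M) {V : Y.Opens}
    (s : Γ(L, V)) {n : ℕ} (e : Fin n → Γ(M, V)) (a : Fin n → Γ(X, f ⁻¹ᵁ V))
    (ha : φ.app (f ⁻¹ᵁ V) (puSec f s) = lc (fun i => puSec f (e i)) le_rfl a) :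
    (((Scheme.Modules.pullbackComp p f).app L).inv ≫ (Scheme.Modules.pullback p).map φ ≫
        ((Scheme.Modules.pullbackComp p f).app M).hom).app ((p ≫ f) ⁻¹ᵁ V) (puSec (p ≫ f) s) =
      lc (fun i => puSec (p ≫ f) (e i)) le_rfl
        (fun i => (show Γ(Z, (p ≫ f) ⁻¹ᵁ V) from p.app (f ⁻¹ᵁ V) (a i))) := by
  have h1 : ((Scheme.Modules.pullbackComp p f).app L).inv.app (p ⁻¹ᵁ (f ⁻¹ᵁ V))
      (puSec (p ≫ f) s) = puSec p (puSec f s) := by
    rw [← CohCmpLib.pullbackComp_puSec]
    exact congr(Scheme.Modules.Hom.app $(((Scheme.Modules.pullbackComp p f).app L).hom_inv_id)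
      (p ⁻¹ᵁ (f ⁻¹ᵁ V)) (puSec p (puSec f s)))
  refine (congrArg (fun x => ((Scheme.Modules.pullbackComp p f).app M).hom.app (p ⁻¹ᵁ (f ⁻¹ᵁ V))
    (((Scheme.Modules.pullback p).map φ).app (p ⁻¹ᵁ (f ⁻¹ᵁ V)) x)) h1).trans ?_
  rw [puSec_natural, ha, puSec_lc]
  refine (map_sum (((Scheme.Modules.pullbackComp p f).app M).hom.app (p ⁻¹ᵁ (f ⁻¹ᵁ V))).hom _ _).trans
    (Finset.sum_congr rfl fun i _ => ?_)
  refine (Scheme.Modules.Hom.app_smul _ _ _).trans (congrArg (_ • ·) ?_)
  refine (QCohLib.app_map _ _ _).trans ?_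
  exact congrArg (res _ _) (CohCmpLib.pullbackComp_puSec p f M (e i))

/-- Transport along an equality of morphisms, on a section. -/
theorem congr_puSec {g₁ g₂ : Z ⟶ Y} (h : g₁ = g₂) {L M : Y.Modules} (F : pb g₂ L ⟶ pb g₂ M)
    {V : Y.Opens} (s : Γ(L, V)) {n : ℕ} (e : Fin n → Γ(M, V)) (hV : g₁ ⁻¹ᵁ V = g₂ ⁻¹ᵁ V)
    (b : Fin n → Γ(Z, g₂ ⁻¹ᵁ V))
    (hb : F.app (g₂ ⁻¹ᵁ V) (puSec g₂ s) = lc (fun i => puSec g₂ (e i)) le_rfl b) :
    (((Scheme.Modules.pullbackCongr h).app L).hom ≫ F ≫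
        ((Scheme.Modules.pullbackCongr h).app M).inv).app (g₁ ⁻¹ᵁ V) (puSec g₁ s) =
      lc (fun i => puSec g₁ (e i)) le_rfl (fun i => Z.presheaf.map (eqToHom hV).op (b i)) := by
  subst h
  simpa [Scheme.Modules.pullbackCongr] using hb

section Descent

variable (f : X ⟶ Y)
    (hU : ∀ U : Y.Opens, (pullback.fst f f) ⁻¹ᵁ (f ⁻¹ᵁ U) = (pullback.snd f f) ⁻¹ᵁ (f ⁻¹ᵁ U))
    (hinj : ∀ U : Y.Opens, Function.Injective (f.app U))
    (hex : ∀ (U : Y.Opens) (a : Γ(X, f ⁻¹ᵁ U)),
      (pullback.fst f f).app (f ⁻¹ᵁ U) a =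
        ((pullback f f).presheaf.map (eqToHom (hU U)).op) ((pullback.snd f f).app (f ⁻¹ᵁ U) a) →
      a ∈ Set.range (f.app U))
    {L M : Y.Modules} (hM : FlatMod.IsFinLocFree M) (φ : pb f L ⟶ pb f M)
    (hφ : ((Scheme.Modules.pullbackComp (pullback.fst f f) f).app L).inv ≫
        (Scheme.Modules.pullback (pullback.fst f f)).map φ ≫ ((Scheme.Modules.pullbackComp (pullback.fst f f) f).app M).hom =
      ((Scheme.Modules.pullbackCongr (pullback.condition (f := f) (g := f))).app L).hom ≫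
        ((Scheme.Modules.pullbackComp (pullback.snd f f) f).app L).inv ≫
        (Scheme.Modules.pullback (pullback.snd f f)).map φ ≫ ((Scheme.Modules.pullbackComp (pullback.snd f f) f).app M).hom ≫
        ((Scheme.Modules.pullbackCongr (pullback.condition (f := f) (g := f))).app M).inv)

include hU hex hinj hM hφ

theorem mem_range_of_frame {V : Y.Opens} (s : Γ(L, V)) {n : ℕ} {e : Fin n → Γ(M, V)}
    (he : IsFrame M e) : φ.app (f ⁻¹ᵁ V) (puSec f s) ∈ Set.range (puSec f : Γ(M, V) → _) := by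
  obtain ⟨a, ha⟩ := lc_surjective (he.pull f) le_rfl (φ.app (f ⁻¹ᵁ V) (puSec f s))
  have l1 := conj_puSec (pullback.fst f f) f φ s e a ha.symm
  have l2 := congr_puSec (pullback.condition (f := f) (g := f)) _ s e (hU V) _
    (conj_puSec (pullback.snd f f) f φ s e a ha.symm)
  have h3 := congr(Scheme.Modules.Hom.app $hφ ((pullback.fst f f ≫ f) ⁻¹ᵁ V) (puSec (pullback.fst f f ≫ f) s))
  rw [l1] at h3
  simp only [Category.assoc] at l2
  rw [l2] at h3
  have h4 := lc_injective (he.pull (pullback.fst f f ≫ f)) le_rfl h3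
  choose b hb using fun i => hex V (a i) (congr_fun h4 i)
  refine ⟨lc e le_rfl b, ?_⟩
  rw [puSec_lc, ← ha]
  exact congrArg (lc _ _) (funext hb)

theorem mem_range {U : Y.Opens} (s : Γ(L, U)) :
    φ.app (f ⁻¹ᵁ U) (puSec f s) ∈ Set.range (puSec f : Γ(M, U) → _) := by
  let t := φ.app (f ⁻¹ᵁ U) (puSec f s)
  have loc : ∀ y : U, ∃ (W : Y.Opens) (hW : W ≤ U), y.1 ∈ W ∧ ∃ m : Γ(M, W),
      puSec f m = res (pb f M) (fun _ hx => hW hx : f ⁻¹ᵁ W ≤ f ⁻¹ᵁ U) t := by
    intro y
    obtain ⟨W, n, e, hyW, he⟩ := exists_frame hM y.1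
    obtain ⟨m, hm⟩ := mem_range_of_frame f hU hinj hex hM φ hφ
      (res L (inf_le_left : U ⊓ W ≤ U) s) (he.res (inf_le_right : U ⊓ W ≤ W))
    refine ⟨U ⊓ W, inf_le_left, ⟨y.2, hyW⟩, m, hm.trans ?_⟩
    rw [ProjFormLib.puSec_res]
    exact QCohLib.app_map φ _ _
  choose W hW hyW m hm using loc
  have hc : ∀ y z, res M (inf_le_left : W y ⊓ W z ≤ W y) (m y) =
      res M (inf_le_right : W y ⊓ W z ≤ W z) (m z) := by
    intro y z
    apply puSec_injective f hinj hM
    rw [ProjFormLib.puSec_res, ProjFormLib.puSec_res, hm, hm]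
    exact (ConcreteCategory.congr_hom ((pb f M).presheaf.map_comp _ _).symm t).trans
      (ConcreteCategory.congr_hom ((pb f M).presheaf.map_comp
        (homOfLE (fun _ hx => hW z hx : f ⁻¹ᵁ W z ≤ f ⁻¹ᵁ U)).op
        (homOfLE (fun _ hx => hx.2 : f ⁻¹ᵁ (W y ⊓ W z) ≤ f ⁻¹ᵁ W z)).op) t)
  obtain ⟨g, hg, -⟩ := TopCat.Sheaf.existsUnique_gluing'
    ((QCohLib.toAbF Y).obj M : TopCat.Sheaf AddCommGrpCat.{u} Y.toTopCat) W U
    (fun y => homOfLE (hW y)) (fun y hy => Opens.mem_iSup.2 ⟨⟨y, hy⟩, hyW _⟩) m hc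
  refine ⟨g, section_ext _ _ fun x hx => ?_⟩
  let y : U := ⟨f x, hx⟩
  rw [← ger_res (pb f M) (fun _ h => hW y h : f ⁻¹ᵁ W y ≤ f ⁻¹ᵁ U) x (hyW y) (puSec f g),
    ← ger_res (pb f M) (fun _ h => hW y h : f ⁻¹ᵁ W y ≤ f ⁻¹ᵁ U) x (hyW y) t,
    ← ProjFormLib.puSec_res, ← hm y]
  exact congrArg (fun m => ger (pb f M) x (hyW y) (puSec f m)) (hg y)

end Descent

section Desc

variable (f : X ⟶ Y) (hinj : ∀ U : Y.Opens, Function.Injective (f.app U))
  {L M : Y.Modules} (hM : FlatMod.IsFinLocFree M) (φ : pb f L ⟶ pb f M)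
  (hr : ∀ (U : Y.Opens) (s : Γ(L, U)), φ.app (f ⁻¹ᵁ U) (puSec f s) ∈ Set.range (puSec f : Γ(M, U) → _))

/-- The descended value on a section. -/
def descVal {U : Y.Opens} (s : Γ(L, U)) : Γ(M, U) :=
  (hr _ s).choose

theorem puSec_descVal {U : Y.Opens} (s : Γ(L, U)) :
    puSec f (descVal f φ hr s) = φ.app (f ⁻¹ᵁ U) (puSec f s) :=
  (hr _ s).choose_spec

include hinj hM hr

/-- The descended morphism. -/
def desc : L ⟶ M where
  val := PresheafOfModules.homMk
    { app := fun V => AddCommGrpCat.ofHom (AddMonoidHom.mk'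
        (fun s : Γ(L, V.unop) => descVal f φ hr s)
        fun a b => puSec_injective f hinj hM _ <| by
          refine (puSec_descVal f φ hr _).trans (Eq.symm ?_)
          refine (map_add (((Scheme.Modules.pullbackPushforwardAdjunction f).unit.app M).app _).hom _ _).trans ?_
          refine (congr_arg₂ (· + ·) (puSec_descVal f φ hr a)
            (puSec_descVal f φ hr b)).trans ?_
          exact (map_add (φ.app _).hom _ _).symm.trans (congrArg _
            (map_add (((Scheme.Modules.pullbackPushforwardAdjunction f).unit.app L).app _).hom a b).symm))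
      naturality := fun V W i => by
        ext s
        refine puSec_injective f hinj hM _ ?_
        refine (puSec_descVal f φ hr _).trans (Eq.symm ?_)
        refine (ProjFormLib.puSec_res f M i.unop.le _).trans ?_
        refine (congrArg _ (puSec_descVal f φ hr s)).trans ?_
        exact (QCohLib.app_map φ _ _).symm.trans
          (congrArg _ (ProjFormLib.puSec_res f L i.unop.le s).symm) }
    (fun V r s => puSec_injective f hinj hM _ <| by
      refine (puSec_descVal f φ hr _).trans (Eq.symm ?_)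
      refine (puSec_smul f _ _).trans ?_
      refine (congrArg (_ • ·) (puSec_descVal f φ hr s)).trans ?_
      exact ((φ.app_smul _ _).symm.trans (congrArg _ (puSec_smul f _ _).symm)))

theorem existsUnique_of_mem_range : ∃! ψ : L ⟶ M, (Scheme.Modules.pullback f).map ψ = φ := by
  refine ⟨desc f hinj hM φ hr, ?_, fun ψ hψ => ?_⟩
  · apply ((Scheme.Modules.pullbackPushforwardAdjunction f).homEquiv _ _).injective
    rw [Adjunction.homEquiv_unit, Adjunction.homEquiv_unit]
    refine Scheme.Modules.hom_ext _ _ fun U => ConcreteCategory.hom_ext _ _ fun s => ?_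
    exact (puSec_natural f _ s).trans (puSec_descVal f φ hr s)
  · refine Scheme.Modules.hom_ext _ _ fun U => ConcreteCategory.hom_ext _ _ fun s => ?_
    refine puSec_injective f hinj hM _ ?_
    exact ((puSec_natural f ψ s).symm.trans (by rw [hψ])).trans
      (puSec_descVal f φ hr s).symm

end Desc


theorem existsUnique_descend (f : X ⟶ Y)
    (hU : ∀ U : Y.Opens, (pullback.fst f f) ⁻¹ᵁ (f ⁻¹ᵁ U) = (pullback.snd f f) ⁻¹ᵁ (f ⁻¹ᵁ U))
    (hinj : ∀ U : Y.Opens, Function.Injective (f.app U))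
    (hex : ∀ (U : Y.Opens) (a : Γ(X, f ⁻¹ᵁ U)),
      (pullback.fst f f).app (f ⁻¹ᵁ U) a =
        ((pullback f f).presheaf.map (eqToHom (hU U)).op) ((pullback.snd f f).app (f ⁻¹ᵁ U) a) →
      a ∈ Set.range (f.app U))
    {L M : Y.Modules} (hM : FlatMod.IsFinLocFree M) (φ : pb f L ⟶ pb f M)
    (hφ : ((Scheme.Modules.pullbackComp (pullback.fst f f) f).app L).inv ≫
        (Scheme.Modules.pullback (pullback.fst f f)).map φ ≫ ((Scheme.Modules.pullbackComp (pullback.fst f f) f).app M).hom =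
      ((Scheme.Modules.pullbackCongr (pullback.condition (f := f) (g := f))).app L).hom ≫
        ((Scheme.Modules.pullbackComp (pullback.snd f f) f).app L).inv ≫
        (Scheme.Modules.pullback (pullback.snd f f)).map φ ≫ ((Scheme.Modules.pullbackComp (pullback.snd f f) f).app M).hom ≫
        ((Scheme.Modules.pullbackCongr (pullback.condition (f := f) (g := f))).app M).inv) :
    ∃! ψ : L ⟶ M, (Scheme.Modules.pullback f).map ψ = φ :=
  existsUnique_of_mem_range f hinj hM φ fun _ s => mem_range f hU hinj hex hM φ hφ s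

end HomDescLib
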